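import Cfsg.Prelude.Def_Local
import Cfsg.Agent.Lib.SylowNumber.Basic
import Cfsg.Agent.Lib.Coprime.Action
import Cfsg.Agent.Lib.Fusion.ResidualSeries
import Cfsg.Agent.Lib.PSolvable.Core
import Cfsg.Agent.Lib.PSolvable.TwoPrimes
import Cfsg.Agent.Lib.SL2.PSL
import Cfsg.Agent.S1009
import Cfsg.Agent.S4700

/-!
Groups with fewer than `p ^ 2` Sylow `p`-subgroups.
-/

set_option autoImplicit false
set_option linter.style.haveILetI false
set_option maxHeartbeats 800000

namespace CfsgLib.FewSylow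

universe u

variable {p : ℕ} [hp : Fact p.Prime]

section
variable {G : Type u} [Group G] [Finite G]

theorem card_modEq_conj_fixed {Q : Subgroup G} (P : Sylow p G)
    (hPQ : (P : Subgroup G) ≤ Subgroup.normalizer (Q : Set G)) :
    Nat.card Q ≡ Nat.card (Q ⊓ Subgroup.centralizer ((P : Subgroup G) : Set G) : Subgroup G) [MOD p] := by
  have hmem : ∀ (u : (P : Subgroup G)) (a : Q), (u : G) * a * (u : G)⁻¹ ∈ Q := fun u a =>
    (Subgroup.mem_normalizer_iff.mp (hPQ u.2) _).mp a.2
  letI : MulAction (P : Subgroup G) Q :=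
    { smul := fun u a => ⟨(u : G) * a * (u : G)⁻¹, hmem u a⟩
      one_smul := fun a => Subtype.ext (by
        show ((1 : (P : Subgroup G)) : G) * a * ((1 : (P : Subgroup G)) : G)⁻¹ = a
        simp)
      mul_smul := fun u w a => Subtype.ext (by
        show ((u * w : (P : Subgroup G)) : G) * a * ((u * w : (P : Subgroup G)) : G)⁻¹ =
          (u : G) * ((w : G) * a * (w : G)⁻¹) * (u : G)⁻¹
        rw [Subgroup.coe_mul]
        group) }
  refine (P.2.card_modEq_card_fixedPoints Q).trans (congrArg (· % p) (Nat.card_congr ?_))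
  refine
    { toFun := fun a => ⟨a.1.1, a.1.2, Subgroup.mem_centralizer_iff.mpr fun u hu => ?_⟩
      invFun := fun c => ⟨⟨c.1, c.2.1⟩, fun u => Subtype.ext ?_⟩
      left_inv := fun a => rfl
      right_inv := fun c => rfl }
  · have h : (u : G) * (a.1.1 : G) * u⁻¹ = a.1.1 := congrArg Subtype.val (a.2 ⟨u, hu⟩)
    exact mul_inv_eq_iff_eq_mul.mp h
  · show (u : G) * c.1 * (u : G)⁻¹ = c.1
    rw [Subgroup.mem_centralizer_iff.mp c.2.2 _ u.2, mul_inv_cancel_right]

/-- The Sylow number of `P N`, for a normal `p'`-subgroup `N`. -/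
theorem card_sylow_sup (N : Subgroup G) [N.Normal] (hN : (Nat.card N).Coprime p) (P : Sylow p G) :
    Nat.card (Sylow p ((P : Subgroup G) ⊔ N : Subgroup G)) =
      (Subgroup.centralizer ((P : Subgroup G) : Set G)).relIndex N := by
  rw [← CfsgLib.SylowNumber.card_sylow_le_eq (P := P) le_sup_left]
  have horb : {Q : Sylow p G | (Q : Subgroup G) ≤ (P : Subgroup G) ⊔ N} = MulAction.orbit N P := by
    ext Q
    constructor
    · intro hQ
      obtain ⟨x, hx⟩ := MulAction.exists_smul_eq ((P : Subgroup G) ⊔ N : Subgroup G)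
        (P.subtype le_sup_left) (Q.subtype hQ)
      rw [Sylow.smul_subtype] at hx
      have hx' : (x : G) • P = Q := Sylow.subtype_injective hx
      obtain ⟨n, hn, a, ha, hna⟩ := Subgroup.mem_sup_of_normal_left.mp
        (show (x : G) ∈ N ⊔ (P : Subgroup G) by rw [sup_comm]; exact x.2)
      refine ⟨⟨n, hn⟩, ?_⟩
      show n • P = Q
      rw [← hx', ← hna, mul_smul, Sylow.smul_eq_iff_mem_normalizer.mpr (Subgroup.le_normalizer ha)]
    · rintro ⟨n, rfl⟩
      exact Sylow.smul_le le_sup_left (⟨n.1, Subgroup.mem_sup_right n.2⟩ : ((P : Subgroup G) ⊔ N : Subgroup G))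
  have hstab : MulAction.stabilizer N P = (Subgroup.centralizer ((P : Subgroup G) : Set G)).subgroupOf N := by
    ext n
    rw [MulAction.mem_stabilizer_iff, Subgroup.mem_subgroupOf]
    show (n : G) • P = P ↔ _
    rw [Sylow.smul_eq_iff_mem_normalizer]
    refine ⟨fun h => Subgroup.mem_centralizer_iff.mpr fun y hy => ?_,
      fun h => Subgroup.mem_normalizer_iff.mpr fun y => ?_⟩
    · have h1 : (n : G) * y * (n : G)⁻¹ * y⁻¹ ∈ (P : Subgroup G) :=
        mul_mem ((Subgroup.mem_normalizer_iff.mp h y).mp hy) (inv_mem hy)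
      have h2 : (n : G) * y * (n : G)⁻¹ * y⁻¹ ∈ N := by
        rw [show (n : G) * y * (n : G)⁻¹ * y⁻¹ = (n : G) * (y * (n : G)⁻¹ * y⁻¹) by group]
        exact mul_mem n.2 (‹N.Normal›.conj_mem _ (inv_mem n.2) y)
      have hdis : (P : Subgroup G) ⊓ N = ⊥ := by
        refine disjoint_iff.mp (Subgroup.disjoint_of_coprime_natCard ?_)
        obtain ⟨k, hk⟩ := P.2.exists_card_eq
        rw [hk]
        exact (hN.symm).pow_left k
      have h3 := Subgroup.mem_bot.mp (hdis.le ⟨h1, h2⟩)
      calc y * (n : G) = ((n : G) * y * (n : G)⁻¹ * y⁻¹) * y * n := by rw [h3, one_mul]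
        _ = (n : G) * y := by group
    · constructor
      · intro hy
        rw [← Subgroup.mem_centralizer_iff.mp h y hy, mul_inv_cancel_right]
        exact hy
      · intro hy
        have hy' := Subgroup.mem_centralizer_iff.mp h _ hy
        have : (n : G) * y * (n : G)⁻¹ = y := by
          have e : (n : G) * y * (n : G)⁻¹ * n = (n : G) * ((n : G) * y * (n : G)⁻¹) := hy'
          calc (n : G) * y * (n : G)⁻¹
              = (n : G)⁻¹ * ((n : G) * ((n : G) * y * (n : G)⁻¹)) := by group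
            _ = y := by rw [← e]; group
        rwa [this] at hy
  show Nat.card {Q : Sylow p G // (Q : Subgroup G) ≤ (P : Subgroup G) ⊔ N} = _
  rw [← Set.coe_setOf, Nat.card_coe_set_eq, horb, ← MulAction.index_stabilizer, hstab]
  rfl

/-- For a normal `p'`-subgroup, a Sylow number below `p ^ 2` is a prime power. -/
theorem exists_prime_pow_sup (N : Subgroup G) [N.Normal] (hN : (Nat.card N).Coprime p) (P : Sylow p G)
    (hlt : Nat.card (Sylow p ((P : Subgroup G) ⊔ N : Subgroup G)) < p ^ 2) :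
    ∃ q k : ℕ, q.Prime ∧ Nat.card (Sylow p ((P : Subgroup G) ⊔ N : Subgroup G)) = q ^ k := by
  classical
  rw [card_sylow_sup N hN P] at hlt ⊢
  set C : Subgroup G := Subgroup.centralizer ((P : Subgroup G) : Set G)
  set f := C.relIndex N
  have hf0 : f ≠ 0 := Subgroup.index_ne_zero_of_finite
  have hPN : (P : Subgroup G) ≤ Subgroup.normalizer (N : Set G) := by
    rw [Subgroup.normalizer_eq_top]; exact le_top
  have hcop : (Nat.card (P : Subgroup G)).Coprime (Nat.card N) := by
    obtain ⟨k, hk⟩ := P.2.exists_card_eq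
    rw [hk]; exact hN.symm.pow_left k
  have hsol : Group.IsSolvable (P : Subgroup G) ∨ Group.IsSolvable N := by
    haveI := P.2.isNilpotent
    exact Or.inl inferInstance
  have hmul : f * Nat.card (C ⊓ N : Subgroup G) = Nat.card N := by
    show C.relIndex N * _ = _
    rw [← Subgroup.inf_relIndex_right C N]
    rw [← Subgroup.relIndex_bot_left (C ⊓ N), ← Subgroup.relIndex_bot_left N, mul_comm]
    exact Subgroup.relIndex_mul_relIndex _ _ _ bot_le inf_le_right
  -- each prime component is congruent to 1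
  have key : ∀ q : ℕ, q.Prime → q ∣ f → p < q ^ f.factorization q := by
    intro q hq hqf
    haveI := Fact.mk hq
    set R : Sylow q (C ⊓ N : Subgroup G) := default
    have hU : (P : Subgroup G) ≤ Subgroup.normalizer
        ((R : Subgroup (C ⊓ N : Subgroup G)).map (C ⊓ N : Subgroup G).subtype : Set G) := by
      intro y hy
      refine Subgroup.mem_normalizer_iff.mpr fun z => ?_
      have hfix : ∀ z ∈ (R : Subgroup (C ⊓ N : Subgroup G)).map (C ⊓ N : Subgroup G).subtype,
          y * z * y⁻¹ = z ∧ y⁻¹ * z * y = z := by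
        rintro _ ⟨r, -, rfl⟩
        have h1 := Subgroup.mem_centralizer_iff.mp r.2.1 y hy
        exact ⟨mul_inv_eq_iff_eq_mul.mpr h1, by rw [mul_assoc]; exact inv_mul_eq_iff_eq_mul.mpr h1.symm⟩
      constructor
      · intro hz; rw [(hfix z hz).1]; exact hz
      · intro hz
        have h1 := (hfix _ hz).2
        rw [show y⁻¹ * (y * z * y⁻¹) * y = z by group] at h1
        rw [h1]; exact hz
    obtain ⟨Q, hQge, hQinv⟩ := CfsgLib.Coprime.exists_invariant_sylow_ge hPN hcop hsol
      (U := (R : Subgroup (C ⊓ N : Subgroup G)).map (C ⊓ N : Subgroup G).subtype)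
      ((Subgroup.map_subtype_le _).trans inf_le_right) (R.2.map _) hU
    set Q' := (Q : Subgroup N).map N.subtype
    have hQ'card : Nat.card Q' = q ^ (Nat.card N).factorization q := by
      rw [Subgroup.card_map_of_injective N.subtype_injective, Q.card_eq_multiplicity]
    have hR'card : Nat.card ((R : Subgroup (C ⊓ N : Subgroup G)).map (C ⊓ N : Subgroup G).subtype) =
        q ^ (Nat.card (C ⊓ N : Subgroup G)).factorization q := by
      rw [Subgroup.card_map_of_injective (Subgroup.subtype_injective _), R.card_eq_multiplicity]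
    have hQC : Q' ⊓ C = (R : Subgroup (C ⊓ N : Subgroup G)).map (C ⊓ N : Subgroup G).subtype := by
      refine (Subgroup.eq_of_le_of_card_ge (le_inf hQge
        ((Subgroup.map_subtype_le _).trans inf_le_left)) ?_).symm
      obtain ⟨j, hj⟩ := ((Q.2.map N.subtype).to_le (inf_le_left : Q' ⊓ C ≤ Q')).exists_card_eq
      have hle : Q' ⊓ C ≤ C ⊓ N := le_inf inf_le_right (inf_le_left.trans (Subgroup.map_subtype_le _))
      rw [hR'card, hj]
      refine Nat.pow_le_pow_right hq.pos ?_
      rw [← hq.pow_dvd_iff_le_factorization Nat.card_pos.ne', ← hj]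
      exact Subgroup.card_dvd_of_le hle
    have hmod := card_modEq_conj_fixed P hQinv
    rw [hQC, hR'card, hQ'card] at hmod
    have hfac : (Nat.card N).factorization q =
        f.factorization q + (Nat.card (C ⊓ N : Subgroup G)).factorization q := by
      rw [← hmul, Nat.factorization_mul hf0 Nat.card_pos.ne']; rfl
    rw [hfac, pow_add] at hmod
    have hqp : q.Coprime p := (Nat.Coprime.coprime_dvd_left
      (hqf.trans (Dvd.intro _ hmul)) hN)
    have h1 : q ^ f.factorization q ≡ 1 [MOD p] :=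
      Nat.ModEq.cancel_right_of_coprime (c := q ^ (Nat.card (C ⊓ N : Subgroup G)).factorization q)
        (Nat.Coprime.pow_right _ hqp.symm) (by rw [one_mul]; exact hmod)
    have hgt : 1 < q ^ f.factorization q :=
      Nat.one_lt_pow (hq.factorization_pos_of_dvd hf0 hqf).ne' hq.one_lt
    by_contra hle
    push Not at hle
    have h2 : q ^ f.factorization q % p = 1 % p := h1
    rcases Nat.lt_or_eq_of_le hle with h | h
    · rw [Nat.mod_eq_of_lt h, Nat.mod_eq_of_lt hp.out.one_lt] at h2; omega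
    · rw [h, Nat.mod_self, Nat.mod_eq_of_lt hp.out.one_lt] at h2; omega
  rcases eq_or_ne f 1 with h1 | h1
  · exact ⟨2, 0, Nat.prime_two, by rw [h1, pow_zero]⟩
  obtain ⟨q, hq, hqf⟩ := Nat.exists_prime_and_dvd h1
  refine ⟨q, f.factorization q, hq, ?_⟩
  by_contra hne
  have hcof : f / q ^ f.factorization q ≠ 1 := by
    intro h
    apply hne
    conv_lhs => rw [← Nat.mul_div_cancel' (Nat.ordProj_dvd f q), h, mul_one]
  obtain ⟨r, hr, hrf⟩ := Nat.exists_prime_and_dvd hcof
  have hrq : r ≠ q := by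
    rintro rfl
    exact Nat.not_dvd_ordCompl hr hf0 hrf
  have hrf' : r ∣ f := hrf.trans (Nat.ordCompl_dvd f q)
  have hdvd : q ^ f.factorization q * r ^ f.factorization r ∣ f :=
    Nat.Coprime.mul_dvd_of_dvd_of_dvd
      (Nat.Coprime.pow _ _ ((Nat.coprime_primes hq hr).mpr hrq.symm)) (Nat.ordProj_dvd _ _)
      (Nat.ordProj_dvd _ _)
  have hle := Nat.le_of_dvd (Nat.pos_of_ne_zero hf0) hdvd
  have hmul2 := Nat.mul_lt_mul'' (key q hq hqf) (key r hr hrf')
  rw [pow_two] at hlt
  omega

end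

theorem lt_of_ne_one {G : Type u} [Group G] [Finite G] (h : Nat.card (Sylow p G) ≠ 1) :
    p < Nat.card (Sylow p G) := by
  have hmod : Nat.card (Sylow p G) % p = 1 % p := card_sylow_modEq_one p G
  rw [Nat.mod_eq_of_lt hp.out.one_lt] at hmod
  by_contra hle
  push Not at hle
  rcases Nat.lt_or_eq_of_le hle with h' | h'
  · rw [Nat.mod_eq_of_lt h'] at hmod; exact h hmod
  · rw [h', Nat.mod_self] at hmod; omega

/-- A `p`-solvable group with fewer than `p ^ 2` Sylow subgroups has a prime power number of them. -/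
theorem prime_pow_of_isPSolvable (n : ℕ) : ∀ (G : Type u) [Group G] [Finite G], Nat.card G = n →
    Cfsg.IsPSolvable p G → Nat.card (Sylow p G) < p ^ 2 →
      ∃ q k : ℕ, q.Prime ∧ Nat.card (Sylow p G) = q ^ k := by
  induction n using Nat.strong_induction_on with
  | _ n ih =>
  intro G _ _ hn hs hlt
  rcases eq_or_ne (Nat.card (Sylow p G)) 1 with h1 | h1
  · exact ⟨2, 0, Nat.prime_two, by rw [h1, pow_zero]⟩
  haveI : Nontrivial G := by
    by_contra hnt
    haveI : Subsingleton G := not_nontrivial_iff_subsingleton.mp hnt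
    exact h1 (CfsgLib.SylowNumber.card_sylow_eq_one (default : Sylow p G)
      (h := ⟨fun x hx g => by rwa [Subsingleton.elim (g * x * g⁻¹) x]⟩))
  obtain ⟨L, hLn, hLne, hL⟩ := CfsgLib.TwoPrimes.exists_normal_pGroup_or_coprime hs
  haveI := hLn
  have hcard : Nat.card (G ⧸ L) < n := by
    rw [← hn, Subgroup.card_eq_card_quotient_mul_card_subgroup L]
    exact lt_mul_of_one_lt_right Nat.card_pos (L.one_lt_card_iff_ne_bot.2 hLne)
  have hsq : Cfsg.IsPSolvable p (G ⧸ L) :=
    CfsgLib.PSolvable.isPSolvable_of_surjective _ (QuotientGroup.mk'_surjective L) hs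
  rcases hL with hL | hL
  · rw [← CfsgLib.SylowNumber.card_sylow_quotient_of_isPGroup L hL] at hlt ⊢
    exact ih _ hcard _ rfl hsq hlt
  · let P : Sylow p G := default
    have hmul := CfsgLib.SylowNumber.card_sylow_eq_quotient_mul L P
    rcases eq_or_ne (Nat.card (Sylow p ((P : Subgroup G) ⊔ L : Subgroup G))) 1 with h2 | h2
    · rw [h2, mul_one] at hmul
      rw [hmul] at hlt ⊢
      exact ih _ hcard _ rfl hsq hlt
    · rcases eq_or_ne (Nat.card (Sylow p (G ⧸ L))) 1 with h3 | h3
      · rw [h3, one_mul] at hmul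
        rw [hmul] at hlt ⊢
        exact exists_prime_pow_sup L hL P hlt
      · have := Nat.mul_lt_mul'' (lt_of_ne_one h3) (lt_of_ne_one h2)
        rw [← hmul] at this
        rw [pow_two] at hlt
        omega

theorem dvd_cases {q c a b : ℕ} (hq : q.Prime) (hab : a.Coprime b) (h : q ^ c ∣ a * b) :
    q ^ c ∣ a ∨ q ^ c ∣ b := by
  by_cases hqa : q ∣ a
  · have hqb : ¬ q ∣ b := fun hqb => hq.ne_one (Nat.eq_one_of_dvd_coprimes hab hqa hqb)
    exact Or.inl ((Nat.Coprime.pow_left c (hq.coprime_iff_not_dvd.mpr hqb)).dvd_of_dvd_mul_right h)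
  · exact Or.inr ((Nat.Coprime.pow_left c (hq.coprime_iff_not_dvd.mpr hqa)).dvd_of_dvd_mul_left h)

/-- The arithmetic of the case `n (u + 1) = h u p + u² + u + h`. -/
theorem equation_impossible {k u h q c : ℕ} (hkp : k < p) (hh : 0 < h) (hu : 0 < u)
    (heq : k * (u + 1) = h * u * p + u ^ 2 + u + h) (hq : q.Prime) (hc : 1 + k * p = q ^ c) :
    False := by
  have hp2 := hp.out.two_le
  have hhu : h * u ≤ u := by
    by_contra hne
    push Not at hne
    have h1 : (u + 1) * p ≤ h * u * p := Nat.mul_le_mul_right p hne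
    have h2 : k * (u + 1) < p * (u + 1) := Nat.mul_lt_mul_of_pos_right hkp (by omega)
    nlinarith
  have hh1 : h = 1 := by
    rcases Nat.lt_or_ge h 2 with h' | h'
    · omega
    · have : 2 * u ≤ h * u := Nat.mul_le_mul_right u h'
      omega
  subst hh1
  rw [one_mul] at heq
  have hup : u ^ 2 + u + 1 < p := by nlinarith
  have hprod : q ^ c * (u + 1) = (p + u + 1) * (u * p + 1) := by
    rw [← hc]; nlinarith
  have hdiv : u + 1 ∣ p - 1 := by
    have h1 : ((u : ℤ) + 1) ∣ (p : ℤ) - 1 := ⟨(u : ℤ) - k + p, by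
      have : ((k * (u + 1) : ℕ) : ℤ) = ((u * p + u ^ 2 + u + 1 : ℕ) : ℤ) := by exact_mod_cast heq
      push_cast at this
      nlinarith⟩
    have e : ((p - 1 : ℕ) : ℤ) = (p : ℤ) - 1 := by omega
    exact_mod_cast (e ▸ h1 : ((u : ℤ) + 1) ∣ ((p - 1 : ℕ) : ℤ))
  obtain ⟨m, hm⟩ := hdiv
  have hpm : p = (u + 1) * m + 1 := by omega
  set A := u * m + 1 with hA
  have hupA : u * p + 1 = (u + 1) * A := by rw [hA, hpm]; ring
  have hqA : q ^ c = (p + u + 1) * A := by
    rw [hupA] at hprod
    exact Nat.eq_of_mul_eq_mul_right (by omega : 0 < u + 1) (by rw [hprod]; ring)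
  obtain ⟨i, -, hi⟩ := (Nat.dvd_prime_pow hq).mp (Dvd.intro_left _ hqA.symm : A ∣ q ^ c)
  obtain ⟨j, -, hj⟩ := (Nat.dvd_prime_pow hq).mp (Dvd.intro _ hqA.symm : (p + u + 1) ∣ q ^ c)
  have hm1 : 1 ≤ m := by
    rcases Nat.eq_zero_or_pos m with rfl | hm0
    · simp at hpm; omega
    · exact hm0
  have hlt : A < p + u + 1 := by rw [hA, hpm]; nlinarith
  have hij : i < j := (Nat.pow_lt_pow_iff_right hq.one_lt).mp (hi ▸ hj ▸ hlt)
  obtain ⟨d, rfl⟩ : ∃ d, j = i + (d + 1) := ⟨j - i - 1, by omega⟩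
  rw [pow_add, ← hi] at hj
  set t := q ^ (d + 1)
  have ht : 2 ≤ t := le_trans hq.two_le (Nat.le_self_pow (by omega) q)
  rcases Nat.lt_or_ge t 3 with ht3 | ht3
  · have ht2 : t = 2 := by omega
    rw [ht2] at hj
    rw [hA, hpm] at hj
    rcases Nat.lt_or_ge u 2 with hu2 | hu2
    · obtain rfl : u = 1 := by omega
      omega
    · have hum : u ^ 2 + u < (u + 1) * m := by omega
      have hm' : u < m := by nlinarith
      nlinarith
  · have : A * 3 ≤ A * t := Nat.mul_le_mul_left A ht3
    rw [← hj, hA, hpm] at this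
    have hum : u ^ 2 + u < (u + 1) * m := by omega
    nlinarith

theorem psl_impossible (hne : ¬ (3 < p ∧ ∃ k : ℕ, p + 1 = 2 ^ k)) (hp3 : 3 < p) {q c : ℕ}
    (hq : q.Prime) (hgt : p < q ^ c) (hd : 2 * q ^ c ∣ (p - 1) * (p + 1)) : False := by
  obtain ⟨s, hs⟩ := (hp.out.eq_two_or_odd').resolve_left (by omega)
  have e : (p - 1) * (p + 1) = 2 * (2 * (s * (s + 1))) := by
    rw [hs, show 2 * s + 1 - 1 = 2 * s by omega]; ring
  rw [e] at hd
  have hd' : q ^ c ∣ 2 * (s * (s + 1)) := Nat.dvd_of_mul_dvd_mul_left (by norm_num) hd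
  have hcop : s.Coprime (s + 1) := by simp
  by_cases hq2 : q = 2
  · subst hq2
    rcases Nat.even_or_odd s with he | ho
    · have h1 : 2 ^ c ∣ (2 * s) * (s + 1) := by rwa [← mul_assoc] at hd'
      have hodd : (2 ^ c).Coprime (s + 1) := Nat.Coprime.pow_left c
        ((Nat.prime_two.coprime_iff_not_dvd).mpr (by rintro ⟨r, hr⟩; obtain ⟨w, hw⟩ := he; omega))
      have := Nat.le_of_dvd (by omega) (hodd.dvd_of_dvd_mul_right h1)
      omega
    · have h1 : (2 : ℕ) ^ c ∣ (2 * (s + 1)) * s := by rwa [show (2 * (s + 1)) * s = 2 * (s * (s + 1)) by ring]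
      have hodd : ((2 : ℕ) ^ c).Coprime s := Nat.Coprime.pow_left c
        ((Nat.prime_two.coprime_iff_not_dvd).mpr (by rintro ⟨r, hr⟩; obtain ⟨w, hw⟩ := ho; omega))
      have hdd := hodd.dvd_of_dvd_mul_right h1
      have := Nat.le_of_dvd (by omega) hdd
      exact hne ⟨hp3, c, by omega⟩
  · have hqc : (q ^ c).Coprime 2 := Nat.Coprime.pow_left c ((Nat.coprime_primes hq Nat.prime_two).mpr hq2)
    rcases dvd_cases hq hcop (hqc.dvd_of_dvd_mul_left hd') with h | h
    · have := Nat.le_of_dvd (by omega) h; omega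
    · have := Nat.le_of_dvd (by omega) h; omega

theorem sl_impossible {m q c : ℕ} (hp3 : 3 < p) (hpm : p = 2 ^ m + 1) (hq : q.Prime)
    (hgt : p < q ^ c) (hd : q ^ c ∣ 2 ^ m * (2 ^ m - 1)) : False := by
  have hm : m ≠ 0 := by rintro rfl; simp at hpm; omega
  have hcop : (2 ^ m).Coprime (2 ^ m - 1) := by
    rw [Nat.coprime_self_sub_right (Nat.one_le_pow _ _ (by norm_num))]
    exact Nat.coprime_one_right _
  rcases dvd_cases hq hcop hd with h | h
  · have := Nat.le_of_dvd (by positivity) h; omega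
  · have h2 : 1 < 2 ^ m := Nat.one_lt_pow hm (by norm_num)
    have := Nat.le_of_dvd (by omega) h; omega

/-- No nonabelian simple group of order divisible by `p` has a prime power number, below `p ^ 2`,
of Sylow `p`-subgroups, unless `p + 1` is a power of two. -/
theorem not_simple (hne : ¬ (3 < p ∧ ∃ k : ℕ, p + 1 = 2 ^ k)) {G : Type u} [Group G] [Finite G]
    [IsSimpleGroup G] (hnc : ¬ IsMulCommutative G) (hdvd : p ∣ Nat.card G) {q c : ℕ} (hq : q.Prime)
    (hqc : Nat.card (Sylow p G) = q ^ c) (hlt : Nat.card (Sylow p G) < p ^ 2) : False := by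
  classical
  have hnorm : ∀ P : Sylow p G, ¬ (P : Subgroup G).Normal := by
    intro P hn
    have hPne : (P : Subgroup G) ≠ ⊥ := P.ne_bot_of_dvd_card hdvd
    rcases hn.eq_bot_or_eq_top with h | h
    · exact hPne h
    · have hnil : Group.IsNilpotent G := by
        haveI := (h ▸ P.2 : IsPGroup p (⊤ : Subgroup G)).isNilpotent
        exact Group.nilpotent_of_mulEquiv Subgroup.topEquiv
      haveI := hnil
      exact hnc ⟨⟨IsSimpleGroup.comm_iff_isSolvable.mpr inferInstance⟩⟩
  have hn1 : Nat.card (Sylow p G) ≠ 1 := by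
    intro h1
    let P : Sylow p G := default
    refine hnorm P ?_
    haveI : Subsingleton (Sylow p G) := (Nat.card_eq_one_iff_unique.mp h1).1
    exact P.normal_of_subsingleton
  -- intersections of two Sylow subgroups have index `p`
  have hint : ∀ P Q : Sylow p G, P ≠ Q → (Q : Subgroup G).relIndex (P : Subgroup G) = p := by
    intro P Q hPQ
    have hst : MulAction.stabilizer (P : Subgroup G) Q = (Q : Subgroup G).subgroupOf (P : Subgroup G) := by
      ext y
      rw [MulAction.mem_stabilizer_iff, Subgroup.mem_subgroupOf]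
      show (y : G) • Q = Q ↔ _
      rw [Sylow.smul_eq_iff_mem_normalizer]
      refine ⟨fun h => ?_, fun h => Subgroup.le_normalizer h⟩
      have : (y : G) ∈ (P : Subgroup G) ⊓ Subgroup.normalizer ((Q : Subgroup G) : Set G) := ⟨y.2, h⟩
      exact ((P.2.inf_normalizer_sylow Q).le this).2
    have hcard := MulAction.index_stabilizer (P : Subgroup G) Q
    rw [hst] at hcard
    obtain ⟨i, -, hi⟩ := (Nat.dvd_prime_pow hp.out).mp
      ((P.card_eq_multiplicity) ▸ (((Q : Subgroup G).subgroupOf (P : Subgroup G)).index_dvd_card))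
    have hle : (MulAction.orbit (P : Subgroup G) Q).ncard ≤ Nat.card (Sylow p G) := by
      rw [← Set.ncard_univ]
      exact Set.ncard_le_ncard (Set.subset_univ _)
    have hi2 : i < 2 := by
      by_contra h2
      have : p ^ 2 ≤ p ^ i := Nat.pow_le_pow_right hp.out.pos (by omega)
      omega
    have hi0 : i ≠ 0 := by
      rintro rfl
      rw [pow_zero, Subgroup.index_eq_one, Subgroup.subgroupOf_eq_top] at hi
      exact hPQ (Sylow.ext (P.is_maximal' Q.2 hi).symm)
    obtain rfl : i = 1 := by omega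
    rwa [pow_one] at hi
  have hcore : (⨅ R : Sylow p G, (R : Subgroup G)) = ⊥ := by
    set D := ⨅ R : Sylow p G, (R : Subgroup G) with hD
    have hDn : D.Normal := ⟨fun x hx g => by
      rw [hD, Subgroup.mem_iInf] at hx ⊢
      intro R
      have := hx (g⁻¹ • R)
      rw [Sylow.coe_subgroup_smul, Subgroup.mem_pointwise_smul_iff_inv_smul_mem, ← map_inv,
        inv_inv] at this
      simpa [MulAut.smul_def] using this⟩
    rcases hDn.eq_bot_or_eq_top with h | h
    · exact h
    · let P : Sylow p G := default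
      have htop : (P : Subgroup G) = ⊤ := top_le_iff.mp (h ▸ iInf_le _ P)
      exact absurd (show (P : Subgroup G).Normal by rw [htop]; infer_instance) (hnorm P)
  have hsmall : ∀ (P : Sylow p G) (x : G), x ∈ (P : Subgroup G) →
      (∀ Q : Sylow p G, Q ≠ P → x ∈ (Q : Subgroup G)) → x = 1 := by
    intro P x hx h
    refine Subgroup.mem_bot.mp (hcore ▸ Subgroup.mem_iInf.mpr fun R => ?_)
    rcases eq_or_ne R P with rfl | hR
    · exact hx
    · exact h R hR
  have hab : ∀ P : Sylow p G, IsMulCommutative ↥(P : Subgroup G) := by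
    intro P
    refine ⟨⟨fun a b => ?_⟩⟩
    have h1 : (a * b * a⁻¹ * b⁻¹ : (P : Subgroup G)).val = 1 := by
      refine hsmall P _ (SetLike.coe_mem _) fun Q hQ => ?_
      set S := (Q : Subgroup G).subgroupOf (P : Subgroup G)
      have hidx : S.index = p := hint P Q (Ne.symm hQ)
      haveI : Fintype (P : Subgroup G) := Fintype.ofFinite _
      haveI hSn : S.Normal := by
        refine Subgroup.normal_of_index_eq_minFac_card ?_
        rw [hidx, P.card_eq_multiplicity, Nat.pow_minFac, hp.out.minFac_eq]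
        exact (hp.out.factorization_pos_of_dvd Nat.card_pos.ne' hdvd).ne'
      haveI : Fact (Nat.card ((P : Subgroup G) ⧸ S)).Prime := ⟨by rw [← Subgroup.index]; rw [hidx]; exact hp.out⟩
      haveI : IsCyclic ((P : Subgroup G) ⧸ S) := isCyclic_of_prime_card rfl
      letI := IsCyclic.commGroup (α := (P : Subgroup G) ⧸ S)
      have hm : ((a * b * a⁻¹ * b⁻¹ : (P : Subgroup G)) : (P : Subgroup G) ⧸ S) = 1 := by
        simp only [QuotientGroup.mk_mul, QuotientGroup.mk_inv]
        rw [mul_comm (a : (P : Subgroup G) ⧸ S), mul_inv_cancel_right, mul_inv_cancel]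
      exact Subgroup.mem_subgroupOf.mp ((QuotientGroup.eq_one_iff (N := S) (a * b * a⁻¹ * b⁻¹)).mp hm)
    have h2 : a * b * a⁻¹ * b⁻¹ = 1 := Subtype.ext h1
    calc a * b = (a * b * a⁻¹ * b⁻¹) * (b * a) := by group
      _ = b * a := by rw [h2, one_mul]
  obtain ⟨P, Q, hPQ⟩ := Cfsg.Agent.S1009.result p hab
  rw [hcore] at hPQ
  have hne' : P ≠ Q := by
    rintro rfl
    rw [inf_idem] at hPQ
    exact P.ne_bot_of_dvd_card hdvd hPQ
  have hPp : Nat.card (P : Subgroup G) = p := by
    have h := hint P Q hne'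
    rw [← Subgroup.inf_relIndex_right, inf_comm, hPQ, Subgroup.relIndex_bot_left] at h
    exact h
  have hmod : Nat.card (Sylow p G) % p = 1 % p := card_sylow_modEq_one p G
  rw [Nat.mod_eq_of_lt hp.out.one_lt] at hmod
  set k := Nat.card (Sylow p G) / p
  have hk : Nat.card (Sylow p G) = 1 + k * p := by
    have := Nat.mod_add_div (Nat.card (Sylow p G)) p
    rw [hmod] at this
    rw [← this]; ring
  have hkp : k < p := Nat.div_lt_of_lt_mul (by rwa [← pow_two])
  have hperf : commutator G = ⊤ := by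
    rcases (inferInstance : (commutator G).Normal).eq_bot_or_eq_top with h | h
    · exact absurd ⟨⟨fun a b => commutatorElement_eq_one_iff_mul_comm.mp (Subgroup.mem_bot.mp
        (h ▸ Subgroup.commutator_mem_commutator (Subgroup.mem_top a) (Subgroup.mem_top b)))⟩⟩ hnc
    · exact h
  have hcorep : Cfsg.pPrimeCore p G = ⊥ := by
    rcases (CfsgLib.Transfer.pPrimeCore_normal p G).eq_bot_or_eq_top with h | h
    · exact h
    · have := CfsgLib.Transfer.pPrimeCore_coprime (G := G) p
      rw [h, Subgroup.card_top] at this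
      exact absurd hdvd ((hp.out.coprime_iff_not_dvd).mp this.symm)
  have eG : G ⧸ Cfsg.pPrimeCore p G ≃* G :=
    (QuotientGroup.quotientMulEquivOfEq hcorep).trans QuotientGroup.quotientBot
  have hgt : p < q ^ c := hqc ▸ lt_of_ne_one hn1
  have hncard : q ^ c * p ∣ Nat.card G := by
    refine Nat.Coprime.mul_dvd_of_dvd_of_dvd ?_ (hqc ▸ ?_) hdvd
    · rw [← hqc, hk, Nat.coprime_comm, Nat.coprime_add_mul_right_right]
      exact Nat.coprime_one_right _
    · rw [P.card_eq_index_normalizer]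
      exact Subgroup.index_dvd_card _
  rcases Cfsg.Agent.S4700.result hperf p P hPp k hk with
    ⟨F, _, _, hF, hp3, ⟨e⟩⟩ | ⟨m, F, _, _, hF, hpm, hp3, ⟨e⟩⟩ | ⟨h, u, hh, hu, heq⟩
  · have hc := CfsgLib.SL2.card_PSL (F := F)
    have hF' : Nat.card F = p := Nat.card_eq_fintype_card.trans hF
    rw [← Nat.card_congr (eG.symm.trans e).toEquiv, hF'] at hc
    have hodd : Nat.gcd 2 (p - 1) = 2 := by
      obtain ⟨s, hs⟩ := (hp.out.eq_two_or_odd').resolve_left (by omega)
      rw [hs, Nat.add_sub_cancel, Nat.gcd_mul_right_right]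
    rw [hodd] at hc
    refine psl_impossible hne hp3 hq hgt (Nat.dvd_of_mul_dvd_mul_right hp.out.pos ?_)
    have h2 : 2 * (q ^ c * p) ∣ 2 * Nat.card G := Nat.mul_dvd_mul_left 2 hncard
    rw [hc, ← mul_assoc] at h2
    rwa [mul_comm ((p - 1) * (p + 1)) p]
  · have hc := CfsgLib.SL2.card_SL_two' (F := F)
    rw [← Nat.card_congr (eG.symm.trans e).toEquiv,
      show Nat.card F = 2 ^ m from Nat.card_eq_fintype_card.trans hF, ← hpm, ← mul_assoc] at hc
    refine sl_impossible hp3 hpm hq hgt (Nat.dvd_of_mul_dvd_mul_right hp.out.pos ?_)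
    rwa [hc] at hncard
  · exact equation_impossible hkp hh hu heq hq (hk.symm.trans hqc)

/-- A group with a prime power number, below `p ^ 2`, of Sylow subgroups is `p`-solvable. -/
theorem isPSolvable_of_prime_pow (hne : ¬ (3 < p ∧ ∃ k : ℕ, p + 1 = 2 ^ k)) (n : ℕ) :
    ∀ (G : Type u) [Group G] [Finite G], Nat.card G = n → Nat.card (Sylow p G) < p ^ 2 →
      (∃ q k : ℕ, q.Prime ∧ Nat.card (Sylow p G) = q ^ k) → Cfsg.IsPSolvable p G := by
  induction n using Nat.strong_induction_on with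
  | _ n ih =>
  intro G _ _ hn hlt hpow
  obtain ⟨q, c, hq, hqc⟩ := hpow
  by_cases hN : ∃ N : Subgroup G, N.Normal ∧ N ≠ ⊥ ∧ N ≠ ⊤
  · obtain ⟨N, hNn, hN1, hN2⟩ := hN
    haveI := hNn
    let P : Sylow p G := default
    have hd1 : Nat.card (Sylow p N) ∣ Nat.card (Sylow p G) :=
      Dvd.intro _ (CfsgLib.SylowNumber.card_sylow_eq_normal_mul N P).symm
    have hd2 := CfsgLib.SylowNumber.card_sylow_quotient_dvd (p := p) N
    obtain ⟨i, -, hi⟩ := (Nat.dvd_prime_pow hq).mp (hqc ▸ hd1)
    obtain ⟨j, -, hj⟩ := (Nat.dvd_prime_pow hq).mp (hqc ▸ hd2)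
    have hc1 : Nat.card N < n := by
      rw [← hn]
      refine lt_of_le_of_ne (Subgroup.card_le_card_group N) fun e => hN2 ?_
      exact N.eq_top_of_card_eq e
    have hc2 : Nat.card (G ⧸ N) < n := by
      rw [← hn, Subgroup.card_eq_card_quotient_mul_card_subgroup N]
      exact lt_mul_of_one_lt_right Nat.card_pos (N.one_lt_card_iff_ne_bot.2 hN1)
    exact CfsgLib.Fusion.ResidualSeries.isPSolvable_ext N
      (ih _ hc1 N rfl ((Nat.le_of_dvd Nat.card_pos hd1).trans_lt hlt) ⟨q, i, hq, hi⟩)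
      (ih _ hc2 (G ⧸ N) rfl ((Nat.le_of_dvd Nat.card_pos hd2).trans_lt hlt) ⟨q, j, hq, hj⟩)
  push Not at hN
  by_cases hdvd : p ∣ Nat.card G
  swap
  · exact CfsgLib.Fusion.ResidualSeries.isPSolvable_of_coprime ((hp.out.coprime_iff_not_dvd.mpr hdvd).symm)
  by_cases hcom : IsMulCommutative G
  · letI : CommGroup G := { (inferInstance : Group G) with mul_comm := fun a b => mul_comm' a b }
    exact CfsgLib.PSolvable.isPSolvable_of_isSolvable inferInstance
  exfalso
  haveI : Nontrivial G := Finite.one_lt_card_iff_nontrivial.mp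
    (lt_of_lt_of_le hp.out.one_lt (Nat.le_of_dvd Nat.card_pos hdvd))
  haveI : IsSimpleGroup G :=
    { eq_bot_or_eq_top_of_normal := fun N hNn => or_iff_not_imp_left.mpr (hN N hNn) }
  exact not_simple hne hcom hdvd hq hqc hlt

end CfsgLib.FewSylow
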